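import Cfsg.Agent.EqOrderConj75.Sizes
import Cfsg.Agent.AutPSL.Outer
import Cfsg.Agent.AutPSL.Classes
import Cfsg.Agent.Dickson.PSL

/-!
# Almost simple groups with socle `PSL(2, 2^k)`, `k` in `{2, 3, 5}`
-/

set_option autoImplicit false

namespace CfsgLib.EqOrderConj75

open Cfsg CfsgLib.AutPSL

variable {F : Type} [Field F] [Fintype F]

local notation "PSL₂" => Matrix.ProjectiveSpecialLinearGroup (Fin 2) F

theorem finite_autPSL : Finite (MulAut PSL₂) :=
  Finite.of_injective (fun f : MulAut PSL₂ => (f : PSL₂ → PSL₂)) DFunLike.coe_injective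

theorem gcd_eq_one {k : ℕ} (hk : 1 ≤ k) (hF : Fintype.card F = 2 ^ k) :
    Nat.gcd 2 (Fintype.card F - 1) = 1 := by
  refine Nat.prime_two.coprime_iff_not_dvd.mpr fun h2 => ?_
  have h3 : 2 ∣ Fintype.card F := hF ▸ dvd_pow_self 2 (by omega)
  have := Fintype.card_pos (α := F)
  omega

theorem diag_le_inn {k : ℕ} (hk : 1 ≤ k) (hF : Fintype.card F = 2 ^ k) :
    (diagGroup : Subgroup (MulAut PSL₂)) ≤ Inn PSL₂ := by
  have hc := (isCyclic_card_diag (F := F) (n := 2) le_rfl).2
  rw [gcd_eq_one hk hF] at hc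
  intro a ha
  have : QuotientGroup.mk' (Inn PSL₂) a ∈
      ((diagGroup : Subgroup (MulAut PSL₂)).map (QuotientGroup.mk' (Inn PSL₂))) :=
    Subgroup.mem_map_of_mem _ ha
  rw [Subgroup.card_eq_one.mp hc, Subgroup.mem_bot] at this
  exact (QuotientGroup.eq_one_iff a).mp this

theorem inn_index_le {k : ℕ} (hk : 1 ≤ k) (hF : Fintype.card F = 2 ^ k) :
    (Inn PSL₂).index ≤ k := by
  haveI : Fact (Nat.Prime 2) := ⟨Nat.prime_two⟩
  haveI := finite_autPSL (F := F)
  obtain ⟨ε⟩ := autField_equiv (F := F) (p := 2) hk hF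
  have hc : Nat.card (RingAut F) = k := by
    rw [Nat.card_congr ε.toEquiv, Nat.card_congr Multiplicative.toAdd, Nat.card_zmod]
  haveI : Finite (RingAut F) := Nat.finite_of_card_ne_zero (by omega)
  rw [← hc, Subgroup.index_eq_card]
  refine Nat.card_le_card_of_surjective
    ((QuotientGroup.mk' (Inn PSL₂)).comp (fieldHom (F := F) (n := 2))) fun c => ?_
  obtain ⟨β, rfl⟩ := QuotientGroup.mk_surjective c
  obtain ⟨g, σ, rfl⟩ := exists_decomposition_two β
  refine ⟨σ, ?_⟩
  rw [MonoidHom.comp_apply, QuotientGroup.mk'_apply, QuotientGroup.mk_mul,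
    (QuotientGroup.eq_one_iff _).mpr (diag_le_inn hk hF ⟨g, rfl⟩), one_mul]

theorem exists_outer_three (hF : Fintype.card F = 2 ^ 3) :
    ∃ a : MulAut PSL₂, orderOf a = 3 ∧ a ∉ Inn PSL₂ := by
  haveI : Fact (Nat.Prime 2) := ⟨Nat.prime_two⟩
  haveI : Fact (Nat.Prime 3) := ⟨Nat.prime_three⟩
  obtain ⟨ε⟩ := autField_equiv (F := F) (p := 2) (f := 3) (by norm_num) hF
  set σ := ε.symm (Multiplicative.ofAdd (1 : ZMod 3)) with hσ
  have ho : orderOf σ = 3 := by
    rw [hσ, MulEquiv.orderOf_eq]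
    exact orderOf_eq_prime (by clear hσ σ ε; decide +revert) (by clear hσ σ ε; decide +revert)
  refine ⟨mapPSL σ, (orderOf_mapPSL le_rfl σ).trans ho, fun hi => ?_⟩
  have := fieldHom_mem_diag (F := F) (n := 2) le_rfl σ (inn_le_diagGroup hi)
  rw [this, orderOf_one] at ho
  omega

variable {G : Type*} [Group G] [Finite G]

/-- A group between `PSL(2, 2^k)` and its automorphism group. -/
theorem embed (L : Subgroup G) [L.Normal] (hcent : Subgroup.centralizer (L : Set G) = ⊥)
    (e : L ≃* PSL₂) :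
    ∃ φ : G →* MulAut PSL₂, Function.Injective φ ∧ L.map φ = Inn PSL₂ ∧
      L.index ∣ (Inn PSL₂).index := by
  haveI := finite_autPSL (F := F)
  let φ : G →* MulAut PSL₂ := (MulAut.congr e).toMonoidHom.comp MulAut.conjNormal
  have hφ : ∀ g x, φ g x = e (MulAut.conjNormal g (e.symm x)) := fun g x => rfl
  have hinj : Function.Injective φ := by
    rw [injective_iff_map_eq_one]
    intro g hg
    rw [← Subgroup.mem_bot, ← hcent, Subgroup.mem_centralizer_iff]
    intro l hl
    have h1 := hφ g (e ⟨l, hl⟩)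
    rw [hg, MulAut.one_apply, e.symm_apply_apply, e.apply_eq_iff_eq] at h1
    have h2 := congrArg Subtype.val h1
    rw [MulAut.conjNormal_apply] at h2
    exact eq_mul_inv_iff_mul_eq.mp h2
  have himg : L.map φ = Inn PSL₂ := by
    have key : ∀ l : L, φ l = MulAut.conj (e l) := fun l => MulEquiv.ext fun x => by
      rw [hφ, MulAut.conj_apply]
      obtain ⟨y, rfl⟩ := e.surjective x
      rw [e.symm_apply_apply, ← map_inv, ← map_mul, ← map_mul]
      exact congrArg e (Subtype.ext (MulAut.conjNormal_apply (H := L) l y))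
    ext a
    constructor
    · rintro ⟨l, hl, rfl⟩
      exact ⟨e ⟨l, hl⟩, (key ⟨l, hl⟩).symm⟩
    · rintro ⟨x, rfl⟩
      exact ⟨e.symm x, (e.symm x).2, by rw [key, e.apply_symm_apply]⟩
  refine ⟨φ, hinj, himg, ?_⟩
  have h1 := Subgroup.index_map_of_injective L hinj
  rw [himg] at h1
  exact h1 ▸ dvd_mul_right _ _

end CfsgLib.EqOrderConj75
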