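import Cfsg.Agent.EqOrderConj75.Auto

/-!
# Groups with elementary abelian Sylow 2-subgroup of rank at least two
-/

set_option autoImplicit false

namespace CfsgLib.EqOrderConj75

open Cfsg

variable {G : Type*} [Group G] [Finite G]

/-- Rank two with non-normal Sylow subgroup. -/
theorem alternating_five (h : EqOrdConj G) (hO : oddCore G = ⊥) (S : Sylow 2 G)
    (hel : ∀ x ∈ (S : Subgroup G), x * x = 1) (hn : ¬ (S : Subgroup G).Normal)
    (hcard : Nat.card S = 4) : Nonempty (G ≃* alternatingGroup (Fin 5)) := by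
  haveI : Fact (Nat.Prime 2) := ⟨Nat.prime_two⟩
  have hne : (S : Subgroup G) ≠ ⊥ := fun e => by
    rw [show Nat.card S = Nat.card (S : Subgroup G) from rfl, e, Subgroup.card_bot] at hcard; omega
  obtain ⟨L, hLn, hsimple, hSL, hcent, hna, H, hH⟩ := exists_simple h hO S hel hne hn
  have hodd : ¬ 2 ∣ L.index := fun hd => S.not_dvd_index (hd.trans (Subgroup.index_dvd_of_le hSL))
  have hdvd : 2 ^ 2 ∣ Nat.card L := by
    have := Subgroup.card_dvd_of_le hSL
    rwa [show Nat.card (S : Subgroup G) = 2 ^ 2 from hcard] at this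
  have hndvd : ¬ 2 ^ (2 + 1) ∣ Nat.card L := fun hd => by
    have h3 := hd.trans (Subgroup.card_subgroup_dvd_card L)
    have h4 := S.pow_dvd_card_of_pow_dvd_card h3
    rw [show Nat.card (S : Subgroup G) = 4 from hcard] at h4
    have := Nat.le_of_dvd (by norm_num) h4
    omega
  obtain ⟨F, iF, iT, hF, ⟨e⟩⟩ := bender_small hna H hH (n := 2) (by norm_num) hdvd hndvd
  obtain ⟨φ, -, -, hidx⟩ := embed L hcent e
  haveI := finite_autPSL (F := F)
  have hle := inn_index_le (F := F) (by norm_num) hF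
  have hpos := Nat.pos_of_ne_zero
    (Subgroup.index_ne_zero_of_finite (H := Inn (Matrix.ProjectiveSpecialLinearGroup (Fin 2) F)))
  have hL1 : L.index ≠ 0 := L.index_ne_zero_of_finite
  have := Nat.le_of_dvd hpos hidx
  have htop : L = ⊤ := Subgroup.index_eq_one.mp (by omega)
  subst htop
  obtain ⟨e4⟩ := SmallIso.psl_two_card_four (F := F) hF
  exact ⟨Subgroup.topEquiv.symm.trans (e.trans e4)⟩

/-- The possibilities in rank two. -/
theorem rank_two_cases (h : EqOrdConj G) (hO : oddCore G = ⊥) (S : Sylow 2 G)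
    (hel : ∀ x ∈ (S : Subgroup G), x * x = 1) (hcard : Nat.card S = 4) :
    Nonempty (G ≃* alternatingGroup (Fin 4)) ∨ Nonempty (G ≃* alternatingGroup (Fin 5)) := by
  by_cases hn : (S : Subgroup G).Normal
  · exact Or.inl (alternating_four h hO S hel hn hcard)
  · exact Or.inr (alternating_five h hO S hel hn hcard)

/-- The possibilities in rank three or five with non-normal Sylow subgroup. -/
theorem rank_big (h : EqOrdConj G) (hO : oddCore G = ⊥) (S : Sylow 2 G)
    (hel : ∀ x ∈ (S : Subgroup G), x * x = 1) (hn : ¬ (S : Subgroup G).Normal) {n : ℕ}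
    (hn3 : 3 ≤ n) (hcard : Nat.card S = 2 ^ n) :
    Nonempty (G ≃* Matrix.ProjectiveSpecialLinearGroup (Fin 2) (GaloisField 2 3)) ∨
    Nonempty (G ≃* MulAut (Matrix.ProjectiveSpecialLinearGroup (Fin 2) (GaloisField 2 5))) := by
  haveI : Fact (Nat.Prime 2) := ⟨Nat.prime_two⟩
  have hn35 : n = 3 ∨ n = 5 := (normalizer_cases h S hel hn3 hcard).imp And.left And.left
  have hne : (S : Subgroup G) ≠ ⊥ := fun e => by
    rw [show Nat.card S = Nat.card (S : Subgroup G) from rfl, e, Subgroup.card_bot] at hcard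
    have := (Nat.pow_eq_one.mp hcard.symm)
    omega
  obtain ⟨L, hLn, hsimple, hSL, hcent, hna, H, hH⟩ := exists_simple h hO S hel hne hn
  have hodd : ¬ 2 ∣ L.index := fun hd => S.not_dvd_index (hd.trans (Subgroup.index_dvd_of_le hSL))
  have hdvd : 2 ^ n ∣ Nat.card L := by
    have := Subgroup.card_dvd_of_le hSL
    rwa [show Nat.card (S : Subgroup G) = 2 ^ n from hcard] at this
  have hndvd : ¬ 2 ^ (n + 1) ∣ Nat.card L := fun hd => by
    have h4 := S.pow_dvd_card_of_pow_dvd_card (hd.trans (Subgroup.card_subgroup_dvd_card L))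
    rw [show Nat.card (S : Subgroup G) = 2 ^ n from hcard,
      Nat.pow_dvd_pow_iff_le_right (by norm_num)] at h4
    omega
  obtain ⟨F, iF, iT, hF, ⟨e⟩⟩ := bender_small hna H hH (n := n) (by omega) hdvd hndvd
  obtain ⟨φ, hinj, himg, hidx⟩ := embed L hcent e
  haveI := finite_autPSL (F := F)
  have hle := inn_index_le (F := F) (by omega) hF
  have hpos := Nat.pos_of_ne_zero
    (Subgroup.index_ne_zero_of_finite (H := Inn (Matrix.ProjectiveSpecialLinearGroup (Fin 2) F)))
  have hL1 : L.index ≠ 0 := L.index_ne_zero_of_finite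
  have hle2 := Nat.le_of_dvd hpos hidx
  have hLcard : Nat.card L = Fintype.card F * (Fintype.card F ^ 2 - 1) := by
    rw [Nat.card_congr e.toEquiv]
    have := Classical.Linear.card_psl_two (F := F)
    rwa [gcd_eq_one (k := n) (by omega) hF, one_mul] at this
  have hsurj : L.index = (Inn (Matrix.ProjectiveSpecialLinearGroup (Fin 2) F)).index →
      Function.Surjective φ := fun he => by
    rw [← MonoidHom.range_eq_top]
    refine Subgroup.index_eq_one.mp ?_
    have h2 := Subgroup.index_map_of_injective L hinj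
    rw [himg, ← he] at h2
    exact (Nat.mul_eq_left hL1).mp h2.symm
  rcases hn35 with rfl | rfl
  · refine Or.inl ?_
    haveI : Fintype (GaloisField 2 3) := Fintype.ofFinite _
    obtain ⟨ec⟩ := Dickson.psl_congr (FiniteField.ringEquivOfCardEq (K := F) (K' := GaloisField 2 3)
      (by rw [← Nat.card_eq_fintype_card (α := GaloisField 2 3), GaloisField.card 2 3 (by norm_num)]; exact hF))
    by_cases h1 : L.index = 1
    · obtain rfl := Subgroup.index_eq_one.mp h1
      exact ⟨Subgroup.topEquiv.symm.trans (e.trans ec)⟩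
    exfalso
    have h3 : L.index = 3 := by omega
    have hI := le_antisymm hle2 (h3 ▸ hle)
    obtain ⟨a, ha, hout⟩ := exists_outer_three (F := F) hF
    obtain ⟨y, rfl⟩ := hsurj hI a
    rw [orderOf_injective φ hinj] at ha
    haveI : Fact (Nat.Prime 3) := ⟨Nat.prime_three⟩
    obtain ⟨⟨x, hxL⟩, hx⟩ := exists_prime_orderOf_dvd_card' (G := L) 3
      (by rw [hLcard, hF]; norm_num)
    rw [Subgroup.orderOf_mk] at hx
    obtain ⟨g, hg⟩ := h (Subgroup.zpowers x) (Subgroup.zpowers y)
      (by rw [Nat.card_zpowers, Nat.card_zpowers, hx, ha])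
    obtain ⟨w, hw, hwy⟩ : y ∈ (Subgroup.zpowers x).map (MulAut.conj g).toMonoidHom :=
      hg ▸ Subgroup.mem_zpowers y
    refine hout (himg ▸ Subgroup.mem_map_of_mem φ ?_)
    rw [← hwy]
    exact hLn.conj_mem w (Subgroup.zpowers_le.mpr hxL hw) g
  · refine Or.inr ?_
    haveI : Fintype (GaloisField 2 5) := Fintype.ofFinite _
    obtain ⟨ec⟩ := Dickson.psl_congr (FiniteField.ringEquivOfCardEq (K := F) (K' := GaloisField 2 5)
      (by rw [← Nat.card_eq_fintype_card (α := GaloisField 2 5), GaloisField.card 2 5 (by norm_num)]; exact hF))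
    have h5 := five_dvd_card h S hel hcard
    rw [← L.index_mul_card, hLcard, hF] at h5
    have h55 : 5 ∣ L.index :=
      (Nat.Coprime.dvd_of_dvd_mul_right (by norm_num) h5)
    have hI : L.index = (Inn (Matrix.ProjectiveSpecialLinearGroup (Fin 2) F)).index := by
      have := Nat.le_of_dvd (Nat.pos_of_ne_zero hL1) h55
      omega
    exact ⟨(MulEquiv.ofBijective φ ⟨hinj, hsurj hI⟩).trans (MulAut.congr ec)⟩

end CfsgLib.EqOrderConj75
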