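import Cfsg.Agent.EqOrderConj75.Elementary
import Cfsg.Agent.ZStar.Corollaries
import Cfsg.Agent.Fus.CenterZStar
import Cfsg.Agent.RegularSolvable.Quaternion
import Cfsg.Agent.S3378

/-!
# Sylow 2-subgroups with only one involution
-/

set_option autoImplicit false

namespace CfsgLib.EqOrderConj75

open Cfsg

universe u

variable {G : Type u} [Group G] [Finite G]

/-- Cyclic Sylow 2-subgroup. -/
theorem cyclic_case (hO : oddCore G = ⊥) (S : Sylow 2 G) [hc : IsCyclic (S : Subgroup G)] :
    IsCyclic G ∧ IsPGroup 2 G := by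
  haveI : Fact (Nat.Prime 2) := ⟨Nat.prime_two⟩
  have htop : (S : Subgroup G) = ⊤ := by
    rcases eq_or_ne (Nat.card G) 1 with h1 | h1
    · haveI := (Nat.card_eq_one_iff_unique.mp h1).1
      exact Subsingleton.elim _ _
    have hev : 2 ∣ Nat.card G := by
      by_contra hodd
      have := normal_odd_eq_bot hO (N := (⊤ : Subgroup G)) inferInstance (by rwa [Subgroup.card_top])
      exact h1 (by rw [← Subgroup.card_top, this, Subgroup.card_bot])
    have hmin : (Nat.card G).minFac = 2 := (Nat.minFac_eq_two_iff _).2 hev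
    have hnc := IsCyclic.normalizer_le_centralizer hmin hc
    have hker := MonoidHom.ker_transferSylow_isComplement' S hnc
    set f := MonoidHom.transferSylow S hnc
    have hb : f.ker = ⊥ := normal_odd_eq_bot hO inferInstance (by
      rw [← hker.index_eq_card]; exact S.not_dvd_index)
    refine Subgroup.eq_top_of_card_eq _ ?_
    have h2 := hker.card_mul
    rwa [hb, Subgroup.card_bot, one_mul] at h2
  let e : (S : Subgroup G) ≃* G := (MulEquiv.subgroupCongr htop).trans Subgroup.topEquiv
  exact ⟨e.isCyclic.mp hc, S.2.of_equiv e⟩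

/-- Quaternion Sylow 2-subgroup of order eight. -/
theorem quaternion_case (h : EqOrdConj G) (hO : oddCore G = ⊥) (S : Sylow 2 G)
    (e : (S : Subgroup G) ≃* QuaternionGroup 2) :
    Nonempty (G ≃* Matrix.SpecialLinearGroup (Fin 2) (ZMod 3)) ∨
    Nonempty (G ≃* Matrix.SpecialLinearGroup (Fin 2) (ZMod 5)) := by
  haveI : Fact (Nat.Prime 2) := ⟨Nat.prime_two⟩
  haveI : Fact (Nat.Prime 3) := ⟨Nat.prime_three⟩
  have hS8 : Nat.card (S : Subgroup G) = 8 := by
    rw [Nat.card_congr e.toEquiv, Nat.card_eq_fintype_card, QuaternionGroup.card]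
  have huniq : TwoGroup.AtMostOneInvolution (S : Subgroup G) := by
    refine ZStar.atMostOneInvolution_of_mulEquiv e ?_
    exact ZStar.atMostOneInvolution_quaternionGroup 0
  obtain ⟨⟨z, hzS⟩, hz⟩ := exists_prime_orderOf_dvd_card' (G := (S : Subgroup G)) 2
    (by rw [hS8]; norm_num)
  rw [Subgroup.orderOf_mk] at hz
  have hO' : pPrimeCore 2 G = ⊥ := hO
  have hzc : z ∈ Subgroup.center G :=
    ZStar.mem_center_of_inZStar hO' (ZStar.inZStar_of_atMostOneInvolution S huniq hz)
  set M := Subgroup.zpowers z with hM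
  have hMc : M ≤ Subgroup.center G := Subgroup.zpowers_le.mpr hzc
  haveI hMn : M.Normal := ⟨fun m hm g => by
    rwa [Subgroup.mem_center_iff.mp (hMc hm) g, mul_inv_cancel_right]⟩
  have hM2 : Nat.card M = 2 := by rw [hM, Nat.card_zpowers, hz]
  have hMS : M ≤ (S : Subgroup G) := Subgroup.zpowers_le.mpr hzS
  set π := QuotientGroup.mk' M with hπ
  have hπs : Function.Surjective π := QuotientGroup.mk'_surjective M
  set T : Sylow 2 (G ⧸ M) := S.mapSurjective hπs
  have hT : (T : Subgroup (G ⧸ M)) = (S : Subgroup G).map π := Sylow.coe_mapSurjective hπs S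
  have hcomap : ((S : Subgroup G).map π).comap π = S := by
    rw [Subgroup.comap_map_eq, hπ, QuotientGroup.ker_mk']
    exact sup_eq_left.mpr hMS
  have hcomapCard : ∀ A : Subgroup (G ⧸ M), Nat.card (A.comap π) = Nat.card A * 2 := fun A => by
    have h1 := Subgroup.card_mul_index (A.comap π)
    rw [Subgroup.index_comap_of_surjective _ hπs,
      Subgroup.card_eq_card_quotient_mul_card_subgroup M, ← Subgroup.card_mul_index A, hM2] at h1
    refine Nat.eq_of_mul_eq_mul_right (Nat.pos_of_ne_zero A.index_ne_zero_of_finite) ?_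
    rw [h1]
    ring
  have hT4 : Nat.card T = 4 := by
    have h1 := hcomapCard (T : Subgroup (G ⧸ M))
    rw [hT, hcomap, hS8] at h1
    rw [show Nat.card T = Nat.card (T : Subgroup (G ⧸ M)) from rfl, hT]
    omega
  have hTel : ∀ x ∈ (T : Subgroup (G ⧸ M)), x * x = 1 := by
    rw [hT]
    rintro _ ⟨s, hs, rfl⟩
    rw [← map_mul]
    refine (QuotientGroup.eq_one_iff _).mpr ?_
    set v : (S : Subgroup G) := ⟨s, hs⟩ * ⟨s, hs⟩
    have hq : ∀ q : QuaternionGroup 2, (q * q) * (q * q) = 1 := by decide
    have hv2 : v * v = 1 := e.injective (by rw [map_mul, map_mul, map_one, hq])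
    rcases huniq.eq_one_or_eq (t := ⟨z, hzS⟩) (by rwa [Subgroup.orderOf_mk]) hv2 with hv | hv
    · rw [show s * s = 1 from congrArg Subtype.val hv]
      exact M.one_mem
    · rw [show s * s = z from congrArg Subtype.val hv]
      exact Subgroup.mem_zpowers z
  have hq : EqOrdConj (G ⧸ M) := h.quotient M
  have hOq : oddCore (G ⧸ M) = ⊥ := Fus.oddCore_quotient_central hO M hM2 hMc
  have hcardG : Nat.card G = Nat.card (G ⧸ M) * 2 := by
    rw [Subgroup.card_eq_card_quotient_mul_card_subgroup M, hM2]
  by_cases hn : (T : Subgroup (G ⧸ M)).Normal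
  · refine Or.inl ?_
    obtain ⟨e4⟩ := alternating_four hq hOq T hTel hn hT4
    have h24 : Nat.card G = 24 := by
      rw [hcardG, Nat.card_congr e4.toEquiv, nat_card_alternatingGroup]
      simp [Nat.factorial]
    haveI : (S : Subgroup G).Normal := by
      rw [← hcomap, ← hT]; exact hn.comap π
    obtain ⟨x, hx⟩ := exists_prime_orderOf_dvd_card' (G := G) 3 (by rw [h24]; norm_num)
    refine RegularSolvable.nonempty_mulEquiv_sl_two_three h24.le (S : Subgroup G) e x
      (by rw [← hx, pow_orderOf_eq_one]) fun hxc => ?_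
    have hnb : Subgroup.zpowers x ≠ ⊥ := by
      rw [Ne, Subgroup.zpowers_eq_bot]
      intro e1
      rw [e1, orderOf_one] at hx
      omega
    refine hnb (normal_odd_eq_bot hO (Subgroup.normalizer_eq_top_iff.mp ?_) ?_)
    · set N := Subgroup.normalizer ((Subgroup.zpowers x : Subgroup G) : Set G)
      have hSN : (S : Subgroup G) ≤ N := fun s hs => by
        rw [Subgroup.mem_normalizer_iff_map_conj_eq, MonoidHom.map_zpowers]
        congr 1
        show s * x * s⁻¹ = x
        rw [Subgroup.mem_centralizer_iff.mp hxc s hs, mul_inv_cancel_right]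
      refine Subgroup.eq_top_of_card_eq _ (Nat.dvd_antisymm (Subgroup.card_subgroup_dvd_card _) ?_)
      rw [h24, show 24 = 8 * 3 by norm_num]
      exact Nat.Coprime.mul_dvd_of_dvd_of_dvd (by norm_num) (hS8 ▸ Subgroup.card_dvd_of_le hSN)
        ((by rw [Nat.card_zpowers, hx] : 3 = Nat.card (Subgroup.zpowers x)) ▸
          Subgroup.card_dvd_of_le Subgroup.le_normalizer)
    · rw [Nat.card_zpowers, hx]
      norm_num
  · refine Or.inr ?_
    obtain ⟨e5⟩ := alternating_five hq hOq T hTel hn hT4
    have h120 : Nat.card G = 120 := by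
      rw [hcardG, Nat.card_congr e5.toEquiv, nat_card_alternatingGroup]
      simp [Nat.factorial]
    refine Cfsg.Agent.S3378.result.1 G h120 (fun hsol => ?_) fun P => ⟨(P.equiv S).trans e⟩
    haveI := hsol
    have hA : Group.IsSolvable (alternatingGroup (Fin 5)) :=
      Group.isSolvable_of_surjective (f := e5.toMonoidHom.comp π) (e5.surjective.comp hπs)
    have hab := IsSimpleGroup.comm_iff_isSolvable.mpr hA
    revert hab
    decide +kernel

end CfsgLib.EqOrderConj75
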