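import Cfsg.Agent.EqOrderConj75.Simple
import Cfsg.Agent.S4025
import Cfsg.Agent.S0205
import Cfsg.Agent.S0222
import Cfsg.Agent.Classical.Linear.Card
import Cfsg.Agent.Classical.Unitary.Center
import Cfsg.Agent.SmallIso.PSLTwo
import Cfsg.Agent.Involution.OrderTwelve

/-!
# The rank of an elementary abelian Sylow 2-subgroup
-/

set_option autoImplicit false

namespace CfsgLib.EqOrderConj75

open Cfsg

variable {G : Type*} [Group G] [Finite G]

/-- The Sylow normalizer is solvable. -/
theorem isSolvable_normalizer (S : Sylow 2 G) :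
    Group.IsSolvable ↥(Subgroup.normalizer ((S : Subgroup G) : Set G)) := by
  haveI : Fact (Nat.Prime 2) := ⟨Nat.prime_two⟩
  set N := Subgroup.normalizer ((S : Subgroup G) : Set G)
  set P := (S : Subgroup G).subgroupOf N
  haveI : P.Normal := ⟨fun x hx g => by
    rw [Subgroup.mem_subgroupOf] at hx ⊢
    exact (Subgroup.mem_normalizer_iff.1 g.2 x).1 hx⟩
  haveI : Group.IsNilpotent P := (S.2.comap_subtype (K := N)).isNilpotent
  have hodd : Odd (Nat.card (↥N ⧸ P)) := by
    rw [← Subgroup.index_eq_card]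
    refine Nat.not_even_iff_odd.mp fun he => S.not_dvd_index ?_
    exact (even_iff_two_dvd.mp he).trans
      (Subgroup.relIndex_dvd_index_of_le Subgroup.le_normalizer)
  haveI := Cfsg.Agent.S0205.result hodd
  haveI : Group.IsSolvable P := inferInstance
  exact Group.isSolvable_of_ker_le_range P.subtype (QuotientGroup.mk' P)
    (by rw [QuotientGroup.ker_mk', Subgroup.range_subtype])

theorem five_dvd_card_semiaffine :
    5 ∣ Nat.card (semiaffineGroup (GaloisField 2 5)) := by
  haveI : Fact (Nat.Prime 2) := ⟨Nat.prime_two⟩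
  let f : RingAut (GaloisField 2 5) →* semiaffineGroup (GaloisField 2 5) :=
    { toFun := fun σ => ⟨σ.toEquiv, 1, 0, σ, fun x => by simp⟩
      map_one' := rfl
      map_mul' := fun _ _ => rfl }
  have hf : Function.Injective f := fun a b e =>
    RingEquiv.ext fun x => congrArg (fun s : semiaffineGroup (GaloisField 2 5) => (s : Equiv.Perm _) x) e
  have h := Subgroup.card_dvd_of_injective f hf
  rwa [show Nat.card (RingAut (GaloisField 2 5)) = 5 from
    Cfsg.Agent.S4025.card_ringAut 2 5 (by norm_num)] at h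

/-- The rank is three or five, with the normalizer modulo its core one of three groups. -/
theorem normalizer_cases (h : EqOrdConj G) (S : Sylow 2 G)
    (hel : ∀ x ∈ (S : Subgroup G), x * x = 1) {n : ℕ} (hn : 3 ≤ n)
    (hcard : Nat.card S = 2 ^ n) :
    (n = 3 ∧
      (Nonempty (↥(Subgroup.normalizer ((S : Subgroup G) : Set G)) ⧸
          pPrimeCore 2 ↥(Subgroup.normalizer ((S : Subgroup G) : Set G)) ≃*
            semiaffineGroup (GaloisField 2 3)) ∨
        Nonempty (↥(Subgroup.normalizer ((S : Subgroup G) : Set G)) ⧸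
          pPrimeCore 2 ↥(Subgroup.normalizer ((S : Subgroup G) : Set G)) ≃*
            affineGroup (GaloisField 2 3)))) ∨
    (n = 5 ∧ Nonempty (↥(Subgroup.normalizer ((S : Subgroup G) : Set G)) ⧸
          pPrimeCore 2 ↥(Subgroup.normalizer ((S : Subgroup G) : Set G)) ≃*
            semiaffineGroup (GaloisField 2 5))) := by
  haveI : Fact (Nat.Prime 2) := ⟨Nat.prime_two⟩
  haveI := isSolvable_normalizer S
  rcases Cfsg.Agent.S4025.result (p := 2) (fun H K _ _ hc => h H K hc) S n hn
    (isElementaryAbelian_of_sq hel) hcard _ rfl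
    (Group.isSolvable_of_surjective (QuotientGroup.mk'_surjective _)) with
    ⟨h3, -, h3'⟩ | ⟨h5, -, h5'⟩
  · exact Or.inl ⟨h3, h3' rfl⟩
  · exact Or.inr ⟨h5, h5'⟩

theorem five_dvd_card (h : EqOrdConj G) (S : Sylow 2 G)
    (hel : ∀ x ∈ (S : Subgroup G), x * x = 1) (hcard : Nat.card S = 2 ^ 5) : 5 ∣ Nat.card G := by
  rcases normalizer_cases h S hel (by norm_num) hcard with ⟨h3, -⟩ | ⟨-, ⟨e⟩⟩
  · omega
  · refine five_dvd_card_semiaffine.trans ?_
    rw [← Nat.card_congr e.toEquiv]
    exact (Subgroup.card_quotient_dvd_card _).trans (Subgroup.card_subgroup_dvd_card _)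

/-- A simple group with a strongly embedded subgroup and small 2-part is `PSL(2, 2^n)`. -/
theorem bender_small {L : Type*} [Group L] [Finite L] [IsSimpleGroup L]
    (hna : ∃ a b : L, a * b ≠ b * a) (H : Subgroup L) (hH : IsStronglyEmbedded H) {n : ℕ}
    (hn : n ≤ 5) (hdvd : 2 ^ n ∣ Nat.card L) (hndvd : ¬ 2 ^ (n + 1) ∣ Nat.card L) :
    ∃ (F : Type) (_ : Field F) (_ : Fintype F), Fintype.card F = 2 ^ n ∧
      Nonempty (L ≃* Matrix.ProjectiveSpecialLinearGroup (Fin 2) F) := by
  have hle : ∀ j, 2 ^ j ∣ Nat.card L → j ≤ n := fun j hj => by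
    by_contra hjn
    exact hndvd ((pow_dvd_pow 2 (by omega)).trans hj)
  rcases Cfsg.Agent.S0222.result hna H hH with ⟨F, iF, iT, hch, hq4, ⟨e⟩⟩ | ⟨-, m, hm, hcard⟩ |
    ⟨F, iF, iT, q, hF, hqe, hq4, ⟨e⟩⟩
  · obtain ⟨⟨j, hj0⟩, -, hj⟩ := FiniteField.card F 2
    have hc := Classical.Linear.card_psl_two (F := F)
    rw [← Nat.card_congr e.toEquiv] at hc
    have hq2 : 2 ∣ Fintype.card F := by rw [hj]; exact dvd_pow_self 2 hj0.ne'
    have hg : Nat.gcd 2 (Fintype.card F - 1) = 1 := by
      refine Nat.prime_two.coprime_iff_not_dvd.mpr fun h2 => ?_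
      omega
    rw [hg, one_mul] at hc
    have hodd : Nat.Coprime (2 ^ n) (Fintype.card F ^ 2 - 1) := by
      refine Nat.Coprime.pow_left n (Nat.prime_two.coprime_iff_not_dvd.mpr fun h2 => ?_)
      have h4 : 2 ∣ Fintype.card F ^ 2 := dvd_pow hq2 two_ne_zero
      have : 1 ≤ Fintype.card F ^ 2 := Nat.one_le_pow _ _ (by omega)
      omega
    have h1 : j ≤ n := hle j (by rw [hc, hj]; exact dvd_mul_right _ _)
    have h2 : 2 ^ n ∣ Fintype.card F := hodd.dvd_of_dvd_mul_right (by rwa [hc] at hdvd)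
    rw [hj, Nat.pow_dvd_pow_iff_le_right (by norm_num)] at h2
    exact ⟨F, iF, iT, by rw [hj]; exact congrArg (2 ^ ·) (le_antisymm h1 h2), ⟨e⟩⟩
  · have := hle (2 * (2 * m + 1)) (by
      rw [hcard, mul_comm 2 (2 * m + 1), pow_mul, mul_assoc]
      exact dvd_mul_right _ _)
    omega
  · exfalso
    obtain ⟨p, hp⟩ := CharP.exists F
    obtain ⟨⟨f, hf0⟩, hpp, hf⟩ := FiniteField.card F p
    simp only [PNat.mk_coe] at hf
    have hp2 : p = 2 := by
      have h2 : 2 ∣ p ^ f := by
        rw [← hf, hF]; exact dvd_pow (even_iff_two_dvd.mp hqe) two_ne_zero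
      exact ((Nat.prime_dvd_prime_iff_eq Nat.prime_two hpp).mp (Nat.prime_two.dvd_of_dvd_pow h2)).symm
    subst hp2
    obtain ⟨j, -, hj⟩ := (Nat.dvd_prime_pow Nat.prime_two).mp
      (⟨q, by rw [← hf, hF, pow_two]⟩ : q ∣ 2 ^ f)
    have hc := Unitary.card_PSU (n := 3) hF (by norm_num)
    rw [← Nat.card_congr e.toEquiv] at hc
    have hj2 : 2 ≤ j := by
      by_contra hlt
      have : 2 ^ j ≤ 2 ^ 1 := Nat.pow_le_pow_right (by norm_num) (by omega)
      omega
    have hq1 : ¬ 2 ∣ q + 1 := fun h2 => by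
      obtain ⟨r, hr⟩ := hqe
      omega
    have hcop : Nat.Coprime (2 ^ (3 * j)) (Nat.gcd 3 (q + 1) * (q + 1)) := by
      refine Nat.Coprime.pow_left _ (Nat.prime_two.coprime_iff_not_dvd.mpr fun h2 => ?_)
      rcases Nat.prime_two.dvd_mul.mp h2 with h3 | h3
      · exact hq1 (h3.trans (Nat.gcd_dvd_right _ _))
      · exact hq1 h3
    have h3 : 2 ^ (3 * j) ∣ Nat.card L := by
      refine hcop.dvd_of_dvd_mul_left ?_
      rw [mul_assoc, hc, hj, ← pow_mul, mul_comm 3 j]
      exact dvd_mul_right _ _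
    have := hle _ h3
    omega

/-- The case of a normal Sylow subgroup. -/
theorem normal_cases (h : EqOrdConj G) (hO : oddCore G = ⊥) (S : Sylow 2 G)
    (hel : ∀ x ∈ (S : Subgroup G), x * x = 1) (hS : (S : Subgroup G).Normal) {n : ℕ} (hn : 3 ≤ n)
    (hcard : Nat.card S = 2 ^ n) :
    Nonempty (G ≃* affineGroup (GaloisField 2 3)) ∨
    Nonempty (G ≃* semiaffineGroup (GaloisField 2 3)) ∨
    Nonempty (G ≃* semiaffineGroup (GaloisField 2 5)) := by
  haveI : Fact (Nat.Prime 2) := ⟨Nat.prime_two⟩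
  have htop : Subgroup.normalizer ((S : Subgroup G) : Set G) = ⊤ := Subgroup.normalizer_eq_top_iff.mpr hS
  have hcases := normalizer_cases h S hel hn hcard
  revert hcases
  generalize Subgroup.normalizer ((S : Subgroup G) : Set G) = N at htop ⊢
  subst htop
  intro hcases
  have hcore : pPrimeCore 2 ↥(⊤ : Subgroup G) = ⊥ := by
    have hch := SelfCentPrime.pPrimeCore_characteristic (G := (⊤ : Subgroup G)) 2
    have hb := normal_odd_eq_bot hO (N := (pPrimeCore 2 ↥(⊤ : Subgroup G)).map (Subgroup.subtype ⊤))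
      inferInstance (by
        rw [Subgroup.card_map_of_injective (Subgroup.subtype_injective _)]
        exact Nat.prime_two.coprime_iff_not_dvd.mp
          (SelfCentPrime.pPrimeCore_mem (G := (⊤ : Subgroup G)) 2).2.symm)
    rwa [Subgroup.map_eq_bot_iff_of_injective _ (Subgroup.subtype_injective _)] at hb
  haveI : (pPrimeCore 2 ↥(⊤ : Subgroup G)).Normal :=
    (SelfCentPrime.pPrimeCore_mem (G := (⊤ : Subgroup G)) 2).1
  let e0 : G ≃* ↥(⊤ : Subgroup G) ⧸ pPrimeCore 2 ↥(⊤ : Subgroup G) :=
    (Subgroup.topEquiv.symm.trans QuotientGroup.quotientBot.symm).trans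
      (QuotientGroup.quotientMulEquivOfEq hcore.symm)
  rcases hcases with ⟨-, he | he⟩ | ⟨-, he⟩ <;> obtain ⟨e⟩ := he
  · exact Or.inr (Or.inl ⟨e0.trans e⟩)
  · exact Or.inl ⟨e0.trans e⟩
  · exact Or.inr (Or.inr ⟨e0.trans e⟩)

/-- Rank two with normal Sylow subgroup. -/
theorem alternating_four (h : EqOrdConj G) (hO : oddCore G = ⊥) (S : Sylow 2 G)
    (hel : ∀ x ∈ (S : Subgroup G), x * x = 1) (hS : (S : Subgroup G).Normal)
    (hcard : Nat.card S = 4) : Nonempty (G ≃* alternatingGroup (Fin 4)) := by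
  classical
  haveI : Fact (Nat.Prime 2) := ⟨Nat.prime_two⟩
  haveI := hS
  have hnc : ∀ z : G, orderOf z = 2 → z ∉ Subgroup.center G := fun z hz hzc => by
    have hsub : ((S : Subgroup G) : Set G) ⊆ {1, z} := fun s hs => by
      rcases eq_or_ne s 1 with rfl | hs1
      · exact Or.inl rfl
      · obtain ⟨g, hg⟩ := h.exists_conj hz (orderOf_eq_two (hel s hs) hs1)
        rw [Subgroup.mem_center_iff.mp hzc g, mul_inv_cancel_right] at hg
        exact Or.inr hg.symm
    have := (Set.ncard_le_ncard hsub (Set.toFinite _)).trans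
      ((Set.ncard_insert_le _ _).trans_eq (by rw [Set.ncard_singleton]))
    rw [← Nat.card_coe_set_eq] at this
    change Nat.card S ≤ 2 at this
    omega
  refine Involution.order_twelve_alternating ?_ hnc
  set φ : G →* MulAut (S : Subgroup G) := MulAut.conjNormal
  have hker : φ.ker = (S : Subgroup G) := by
    have hcomm : ∀ a ∈ φ.ker, ∀ s ∈ (S : Subgroup G), a * s = s * a := fun a ha s hs => by
      have := congrArg Subtype.val (DFunLike.congr_fun (MonoidHom.mem_ker.mp ha) ⟨s, hs⟩)
      simp only [φ, MulAut.conjNormal_apply, MulAut.one_apply] at this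
      exact mul_inv_eq_iff_eq_mul.mp this
    have hle : (S : Subgroup G) ≤ φ.ker := fun a ha => by
      rw [MonoidHom.mem_ker]
      refine MulEquiv.ext fun s => Subtype.ext ?_
      rw [MulAut.conjNormal_apply, MulAut.one_apply, commute_of_sq hel ha s.2, mul_inv_cancel_right]
    -- the squares of the kernel form an odd normal subgroup
    set K := φ.ker
    have hcop : Nat.Coprime (Nat.card ((S : Subgroup G).subgroupOf K))
        ((S : Subgroup G).subgroupOf K).index := by
      rw [Nat.card_congr (Subgroup.subgroupOfEquivOfLe hle).toEquiv, hcard]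
      have : ¬ 2 ∣ ((S : Subgroup G).subgroupOf K).index := fun hd =>
        S.not_dvd_index (hd.trans (Subgroup.relIndex_dvd_index_of_le hle))
      exact Nat.Coprime.pow_left 2 (Nat.prime_two.coprime_iff_not_dvd.mpr this)
    obtain ⟨Q, hQ⟩ := Subgroup.exists_right_complement'_of_coprime hcop
    have hQeq : ∀ a : K, a ∈ Q ↔ a ^ Nat.card Q = 1 := fun a => by
      refine ⟨fun ha => congrArg Subtype.val (pow_card_eq_one' (x := (⟨a, ha⟩ : Q))), fun ha => ?_⟩
      obtain ⟨⟨⟨s, hs⟩, ⟨q, hq⟩⟩, he⟩ := hQ.2 a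
      have hc : Commute s q := Subtype.ext (hcomm _ q.2 _ hs).symm
      have hq1 : q ^ Nat.card Q = 1 := congrArg Subtype.val (pow_card_eq_one' (x := (⟨q, hq⟩ : Q)))
      rw [← he, hc.mul_pow, hq1, mul_one] at ha
      have hQodd : ¬ 2 ∣ Nat.card Q := fun hd => by
        rw [← hQ.symm.index_eq_card] at hd
        exact S.not_dvd_index (hd.trans (Subgroup.relIndex_dvd_index_of_le hle))
      have hs1 : s = 1 := by
        by_contra hs1
        have h2 := orderOf_eq_two (Subtype.ext (hel _ hs) : s * s = 1) hs1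
        exact hQodd (h2 ▸ orderOf_dvd_of_pow_eq_one ha)
      rw [← he]
      simpa [hs1] using hq
    haveI : Q.Characteristic := by
      refine Subgroup.characteristic_iff_map_le.mpr fun φ => ?_
      rintro _ ⟨a, ha, rfl⟩
      rw [SetLike.mem_coe, hQeq] at ha
      rw [hQeq]
      rw [← map_pow, ha, map_one]
    have hQb := normal_odd_eq_bot hO (N := Q.map K.subtype) inferInstance (by
      rw [Subgroup.card_map_of_injective K.subtype_injective, ← hQ.symm.index_eq_card]
      exact fun hd => S.not_dvd_index (hd.trans (Subgroup.relIndex_dvd_index_of_le hle)))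
    rw [Subgroup.map_eq_bot_iff_of_injective _ K.subtype_injective] at hQb
    refine le_antisymm (fun a ha => ?_) hle
    obtain ⟨⟨⟨s, hs⟩, ⟨q, hq⟩⟩, he⟩ := hQ.2 ⟨a, ha⟩
    rw [SetLike.mem_coe, hQb, Subgroup.mem_bot] at hq
    have := congrArg Subtype.val he
    simp only [hq, mul_one] at this
    rw [← this]; exact hs
  have hAut : Nat.card (MulAut (S : Subgroup G)) ∣ 6 := by
    haveI : Fintype (S : Subgroup G) := Fintype.ofFinite _
    let f : MulAut (S : Subgroup G) →* Equiv.Perm {x : (S : Subgroup G) // x ≠ 1} :=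
      { toFun := fun e => e.toEquiv.subtypeEquiv fun x => (MulEquiv.map_eq_one_iff e).not.symm
        map_one' := rfl
        map_mul' := fun _ _ => rfl }
    have hf : Function.Injective f := fun a b e => MulEquiv.ext fun x => by
      rcases eq_or_ne x 1 with rfl | hx
      · rw [map_one, map_one]
      · exact congrArg Subtype.val (Equiv.ext_iff.mp e ⟨x, hx⟩)
    refine (Subgroup.card_dvd_of_injective f hf).trans (dvd_of_eq ?_)
    rw [Nat.card_perm, Nat.card_eq_fintype_card, Fintype.card_subtype_compl,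
      Fintype.card_subtype_eq, ← Nat.card_eq_fintype_card, hcard]
    rfl
  have hidx : (S : Subgroup G).index ∣ 6 := by
    rw [← hker, Subgroup.index_ker]
    exact (Subgroup.card_subgroup_dvd_card _).trans hAut
  have hodd := S.not_dvd_index
  have hmul := (S : Subgroup G).index_mul_card
  rw [hcard] at hmul
  have hle6 := Nat.le_of_dvd (by norm_num) hidx
  have h1 : (S : Subgroup G).index ≠ 1 := fun e => by
    rw [Subgroup.index_eq_one] at e
    obtain ⟨z, hz⟩ := exists_prime_orderOf_dvd_card' (G := G) 2 (by omega)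
    exact hnc z hz (Subgroup.mem_center_iff.mpr fun g =>
      commute_of_sq hel (e ▸ Subgroup.mem_top g) (e ▸ Subgroup.mem_top z))
  have h3 : (S : Subgroup G).index = 3 := by
    interval_cases hi : (S : Subgroup G).index <;> omega
  rw [h3] at hmul
  omega

end CfsgLib.EqOrderConj75
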